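import Groth.Agent.H83.ProjPCCrit.Bound
import Groth.Agent.Lib.DerivedOX.PullPushAdj
import Groth.Agent.Lib.DerivedOX.ProjectionLocal
import Groth.Agent.Lib.DerivedOX.RpushCoprod
import Groth.Agent.Lib.SchColim29.RpushPC
import Groth.Agent.Lib.TensorMod.TensorQCoh
import Groth.Agent.Lib.ExtHH.Basic
import Groth.Agent.Lib.ProjCoh.Twist
import Groth.Agent.Lib.ProjSpace.Basic

/-!
# Pseudo-coherence on projective space is detected by direct images of `n + 1` twists
-/

set_option autoImplicit false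
set_option linter.style.haveILetI false
set_option linter.unusedSectionVars false

universe w v u

open CategoryTheory CategoryTheory.Limits CategoryTheory.Pretriangulated AlgebraicGeometry

attribute [local instance] HasDerivedCategory.standard

namespace Groth.Agent.H83.ProjPCCrit

section Gen

variable {C : Type u} [Category.{v} C] [Abelian C] [HasDerivedCategory.{w} C]
  (T₁ T₂ : C ⥤ C) [T₁.Additive] [T₂.Additive] [PreservesFiniteLimits T₁] [PreservesFiniteColimits T₁]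
  [PreservesFiniteLimits T₂] [PreservesFiniteColimits T₂]

/-- A natural inverse on the derived category. -/
noncomputable def derivedInv (v : T₁ ⋙ T₂ ≅ 𝟭 C) : T₁.mapDerivedCategory ⋙ T₂.mapDerivedCategory ≅ 𝟭 _ :=
  let C₁ := T₁.mapHomologicalComplex (ComplexShape.up ℤ)
  let C₂ := T₂.mapHomologicalComplex (ComplexShape.up ℤ)
  let vC : C₁ ⋙ C₂ ≅ 𝟭 (CochainComplex C ℤ) :=
    NatIso.ofComponents (fun E => HomologicalComplex.Hom.isoOfComponents (fun i => v.app (E.X i))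
      fun i j _ => (v.hom.naturality (E.d i j)).symm)
      fun {E E'} g => HomologicalComplex.hom_ext _ _ fun i => v.hom.naturality (g.f i)
  letI : Localization.Lifting DerivedCategory.Q (HomologicalComplex.quasiIso C (ComplexShape.up ℤ))
      ((C₁ ⋙ C₂) ⋙ DerivedCategory.Q) (T₁.mapDerivedCategory ⋙ T₂.mapDerivedCategory) :=
    ⟨(Functor.associator _ _ _).symm ≪≫ Functor.isoWhiskerRight T₁.mapDerivedCategoryFactors _ ≪≫
      Functor.associator _ _ _ ≪≫ Functor.isoWhiskerLeft C₁ T₂.mapDerivedCategoryFactors ≪≫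
      (Functor.associator _ _ _).symm⟩
  letI : Localization.Lifting DerivedCategory.Q (HomologicalComplex.quasiIso C (ComplexShape.up ℤ))
      (𝟭 (CochainComplex C ℤ) ⋙ DerivedCategory.Q) (𝟭 (DerivedCategory C)) :=
    ⟨Functor.rightUnitor _ ≪≫ (Functor.leftUnitor _).symm⟩
  Localization.liftNatIso DerivedCategory.Q (HomologicalComplex.quasiIso C (ComplexShape.up ℤ))
    ((C₁ ⋙ C₂) ⋙ DerivedCategory.Q) (𝟭 (CochainComplex C ℤ) ⋙ DerivedCategory.Q)
    (T₁.mapDerivedCategory ⋙ T₂.mapDerivedCategory) (𝟭 (DerivedCategory C))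
    (Functor.isoWhiskerRight vC DerivedCategory.Q)

theorem full_of_inv {D D' : Type*} [Category D] [Category D'] (F : D ⥤ D') (G : D' ⥤ D) [G.Faithful]
    (i : F ⋙ G ≅ 𝟭 D) : F.Full where
  map_surjective {X Y} f := ⟨i.inv.app X ≫ G.map f ≫ i.hom.app Y, G.map_injective (by
    rw [← cancel_mono (i.hom.app Y)]
    have h := i.hom.naturality (i.inv.app X ≫ G.map f ≫ i.hom.app Y)
    simp only [Functor.comp_map, Functor.id_map] at h
    refine h.trans ?_
    simp)⟩

end Gen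

open Groth.Agent.Lib Groth.Agent.Lib.DerivedOX Groth.Agent.Lib.TensorMod.Basic Groth.Agent.H83.AmpleGen

variable (n : ℕ) (R : Type u) [CommRing R]

theorem full_Tq (d : ℤ) : (Tq n R d).Full := by
  haveI := faithful_Tq n R (-d)
  let v : AmpleGen.tw (PT n R d) ⋙ AmpleGen.tw (PT n R (-d)) ≅ 𝟭 _ :=
    twAssoc (PT n R d) (PT n R (-d)) ≪≫
      twCongr (ProjCoh.Coherent.twTensor (n := n) (R := R) d (-d) ≪≫
        eqToIso (by rw [add_neg_cancel]) ≪≫ ProjCoh.Coherent.twZero) ≪≫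
      NatIso.ofComponents (fun G => rightUnit G) fun g => rightUnit_natural g
  exact full_of_inv _ _ (derivedInv _ _ v)

theorem isQCohD_Tq (d : ℤ) {K : DCoh.D (CohB1.ProjSpace n R)} (hK : DCoh.IsQCohD K) :
    DCoh.IsQCohD ((Tq n R d).obj K) := fun i => by
  obtain ⟨φ, -⟩ := exists_homology_iso (AmpleGen.tw (PT n R d)) 0 K i
  haveI : (DCoh.HD K i).IsQuasicoherent := hK i
  haveI : (PT n R d).IsQuasicoherent := (ProjCoh.Coherent.isCoh_tw (n := n) (R := R) d).1
  exact (WayOut.Scheme.qc _).prop_of_iso φ.symm (TensorMod.TensorQCoh.isQCoh_tensorMod (DCoh.HD K i) (PT n R d))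

/-- `Hom(𝒪, O(k)[q]) = 0` for `q > 0` and `k ≥ -n`. -/
theorem hom_one_twist_eq_zero {k : ℤ} (hk : -(n : ℤ) ≤ k) (m s : ℤ) (h : m < s)
    (φ : (CompactUnit.oneD (CohB1.ProjSpace n R))⟦m⟧ ⟶ (DCoh.inD (CohB1.ProjSpace n R) (PT n R k))⟦s⟧) :
    φ = 0 := by
  obtain ⟨q, hq⟩ := Int.eq_ofNat_of_zero_le (show 0 ≤ s - m by omega)
  have hH : Subsingleton (Coh.HH (CohB1.ProjSpace n R) (ProjCoh.Sections.TS n R k) q) :=
    ProjCoh.Twist.subsingleton_HH_of_neg_le n R hk (by omega)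
  have hE : Subsingleton (Abelian.Ext.{u} (Coh.structureModule (CohB1.ProjSpace n R))
      (ProjCoh.Sections.TS n R k) q) :=
    (ExtHH.Basic.extUnitEquiv R (ProjCoh.Sections.TS n R k) q).injective.subsingleton
  have hS : Subsingleton (ShiftedHom (CompactUnit.oneD (CohB1.ProjSpace n R))
      (DCoh.inD (CohB1.ProjSpace n R) (ProjCoh.Sections.TS n R k)) (q : ℤ)) :=
    Abelian.Ext.homEquiv.symm.injective.subsingleton
  let e₁ : ((CompactUnit.oneD (CohB1.ProjSpace n R))⟦m⟧)⟦-m⟧ ≅ CompactUnit.oneD (CohB1.ProjSpace n R) :=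
    (shiftFunctorCompIsoId _ m (-m) (by omega)).app _
  let e₂ : ((DCoh.inD (CohB1.ProjSpace n R) (PT n R k))⟦s⟧)⟦-m⟧ ≅
      (DCoh.inD (CohB1.ProjSpace n R) (ProjCoh.Sections.TS n R k))⟦(q : ℤ)⟧ :=
    ((shiftFunctorAdd' (DCoh.D (CohB1.ProjSpace n R)) s (-m) (q : ℤ) (by omega)).app _).symm ≪≫
      (shiftFunctor _ (q : ℤ)).mapIso
        ((DerivedCategory.singleFunctor _ 0).mapIso (ProjCoh.Coherent.twIso k))
  refine (shiftFunctor (DCoh.D (CohB1.ProjSpace n R)) (-m)).map_injective ?_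
  rw [Functor.map_zero]
  have h0 : e₁.inv ≫ φ⟦-m⟧' ≫ e₂.hom = 0 := @Subsingleton.elim _ hS _ _
  exact (cancel_epi e₁.inv).1 ((cancel_mono e₂.hom).1 (by rw [Category.assoc, h0, comp_zero, zero_comp]))

variable [hπ : DCoh.HasRpush (CohB1.ProjSpace.toSpec n R)]

/-- The direct image of a twist. -/
noncomputable abbrev RT (d : ℤ) (K : DCoh.D (CohB1.ProjSpace n R)) : DCoh.D (Spec (CommRingCat.of R)) :=
  (DCoh.Rpush (CohB1.ProjSpace.toSpec n R)).obj ((Tq n R d).obj K)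

theorem isQCohD_RT (d : ℤ) {K : DCoh.D (CohB1.ProjSpace n R)} (hK : DCoh.IsQCohD K) :
    DCoh.IsQCohD (RT n R d K) :=
  RpushQCoh.isQCohD_Rpush _ _ (isQCohD_Tq n R d hK)

theorem exists_adj (m : ℤ) :
    haveI := LeftExists.hasLpull (CohB1.ProjSpace.toSpec n R)
    Nonempty ((DCoh.Lpull (CohB1.ProjSpace.toSpec n R)).obj ((CompactUnit.oneD (Spec (CommRingCat.of R)))⟦m⟧) ≅
      (CompactUnit.oneD (CohB1.ProjSpace n R))⟦m⟧) := by
  haveI := LeftExists.hasLpull (CohB1.ProjSpace.toSpec n R)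
  obtain ⟨e⟩ := RpushCoprod.nonempty_Lpull_one (CohB1.ProjSpace.toSpec n R)
  exact ⟨((DCoh.Lpull (CohB1.ProjSpace.toSpec n R)).commShiftIso m).app _ ≪≫ (shiftFunctor _ m).mapIso e⟩

theorem hd_iff (d m i : ℤ) (h : m + i = 0) {K : DCoh.D (CohB1.ProjSpace n R)} (hK : DCoh.IsQCohD K) :
    Hd n R d m K ↔ IsZero (DCoh.HD (RT n R d K) i) := by
  haveI := LeftExists.hasLpull (CohB1.ProjSpace.toSpec n R)
  obtain ⟨e⟩ := exists_adj n R m
  let adj := PullPushAdj.derivedAdjunction (CohB1.ProjSpace.toSpec n R)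
  rw [← forall_hom_eq_zero_iff (A := R) (isQCohD_RT n R d hK) i m h]
  let eq : ((CompactUnit.oneD (CohB1.ProjSpace n R))⟦m⟧ ⟶ (Tq n R d).obj K) ≃
      ((CompactUnit.oneD (Spec (CommRingCat.of R)))⟦m⟧ ⟶ RT n R d K) :=
    (Iso.homCongr e.symm (Iso.refl _)).trans (adj.homEquiv _ _)
  constructor
  · intro h0
    have : Subsingleton ((CompactUnit.oneD (CohB1.ProjSpace n R))⟦m⟧ ⟶ (Tq n R d).obj K) :=
      subsingleton_of_forall_eq 0 h0
    have := eq.symm.subsingleton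
    exact fun φ => Subsingleton.elim _ _
  · intro h0
    have : Subsingleton ((CompactUnit.oneD (Spec (CommRingCat.of R)))⟦m⟧ ⟶ RT n R d K) :=
      subsingleton_of_forall_eq 0 h0
    have := eq.subsingleton
    exact fun φ => Subsingleton.elim _ _

/-- What is needed of the objects to be removed. -/
def GoodP (b : ℤ) (P : DCoh.D (CohB1.ProjSpace n R)) : Prop :=
  DCoh.IsPerfect P ∧ ∀ d : ℕ, d ≤ n → ∀ m, m ≤ -b → Hd n R (d : ℤ) m (P⟦(1 : ℤ)⟧)

variable {n R}

lemma GoodP.of_iso {b : ℤ} {P P' : DCoh.D (CohB1.ProjSpace n R)} (h : GoodP n R b P) (e : P ≅ P') :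
    GoodP n R b P' :=
  ⟨Perfect.Triangle.isPerfect_of_iso e h.1, fun d hd m hm =>
    (h.2 d hd m hm).of_iso ((shiftFunctor _ (1 : ℤ)).mapIso e)⟩

lemma GoodP.of_isZero {b : ℤ} {P : DCoh.D (CohB1.ProjSpace n R)} (h : IsZero P) : GoodP n R b P :=
  ⟨Perfect.OfCohomology.isPerfect_of_isZero h, fun d _ m _ φ =>
    (Functor.map_isZero _ (Functor.map_isZero _ h)).eq_of_tgt _ _⟩

lemma GoodP.ext {b : ℤ} {T : Triangle (DCoh.D (CohB1.ProjSpace n R))} (hT : T ∈ distTriang _)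
    (h₁ : GoodP n R b T.obj₁) (h₃ : GoodP n R b T.obj₃) : GoodP n R b T.obj₂ := by
  refine ⟨Perfect.Triangle.isPerfect₂ hT h₁.1 h₃.1, fun d hd m hm φ => ?_⟩
  have hT' := (Tq n R (d : ℤ)).map_distinguished _ (Triangle.shift_distinguished _ hT 1)
  obtain ⟨ψ, rfl⟩ := Triangle.coyoneda_exact₂ _ hT' φ (h₃.2 d hd m hm _)
  exact (congrArg (· ≫ _) (h₁.2 d hd m hm ψ)).trans zero_comp

theorem goodP_one (b : ℤ) (e : ℕ) (he : e ≤ n) :
    GoodP n R b ((Tq n R (-(e : ℤ))).obj ((CompactUnit.oneD (CohB1.ProjSpace n R))⟦-b⟧)) := by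
  refine ⟨isPerfect_tw _ (ProjCoh.Coherent.isInvertible_tw _)
    (Perfect.Triangle.isPerfect_shift (Gen43.Affine.isPerfect_oneD' _) _), fun d hd m hm φ => ?_⟩
  obtain ⟨e₂⟩ := nonempty_Tq_add n R (-(e : ℤ)) (d : ℤ) ((d : ℤ) - e) (by omega)
    ((CompactUnit.oneD (CohB1.ProjSpace n R))⟦-b⟧)
  obtain ⟨e₃⟩ := nonempty_Tq_one n R ((d : ℤ) - e) (-b)
  let i := ((Tq n R (d : ℤ)).commShiftIso (1 : ℤ)).app
      ((Tq n R (-(e : ℤ))).obj ((CompactUnit.oneD (CohB1.ProjSpace n R))⟦-b⟧)) ≪≫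
    (shiftFunctor _ (1 : ℤ)).mapIso (e₂ ≪≫ e₃) ≪≫
    ((shiftFunctorAdd' (DCoh.D (CohB1.ProjSpace n R)) (-b) 1 (-b + 1) rfl).app _).symm
  exact (cancel_mono i.hom).1
    ((hom_one_twist_eq_zero n R (by omega) m (-b + 1) (by omega) (φ ≫ i.hom)).trans zero_comp.symm)

section Free

open Groth.Agent.Lib.Gen43.Affine (T S) in
theorem goodP_free [DCoh.HasLpull (CohB1.ProjSpace.toSpec n R)] (b : ℤ) (e : ℕ) (he : e ≤ n)
    {F : ModuleCat.{u} R} (hF : DR.PseudoCoherent.ff R F) :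
    GoodP n R b ((Tq n R (-(e : ℤ))).obj ((DCoh.Lpull (CohB1.ProjSpace.toSpec n R)).obj
      ((T R).obj ((Gen43.Ring.sg b).obj F)))) := by
  let π := CohB1.ProjSpace.toSpec n R
  let G : Dual.D R ⥤ DCoh.D (CohB1.ProjSpace n R) := T R ⋙ DCoh.Lpull π ⋙ Tq n R (-(e : ℤ))
  have h1 : GoodP n R b (G.obj ((Gen43.Ring.sg b).obj (ModuleCat.of R R))) := by
    obtain ⟨e₁⟩ := exists_adj n R (-b)
    exact (goodP_one b e he).of_iso ((Tq n R (-(e : ℤ))).mapIso
      (e₁.symm ≪≫ (DCoh.Lpull π).mapIso (oneShiftIso b (-b) (by omega)).symm))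
  have hfree : ∀ k : ℕ, GoodP n R b (G.obj ((Gen43.Ring.sg b).obj (ModuleCat.of R (Fin k → R)))) := by
    intro k
    induction k with
    | zero => exact GoodP.of_isZero (G.map_isZero ((Gen43.Ring.sg b).map_isZero
        (ModuleCat.isZero_of_subsingleton _)))
    | succ k ih =>
      haveI := preservesBinaryBiproducts_of_preservesBiproducts (Gen43.Ring.sg (A := R) b)
      let ei : ModuleCat.of R (Fin (k + 1) → R) ≅ ModuleCat.of R R ⊞ ModuleCat.of R (Fin k → R) :=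
        (Fin.consLinearEquiv R (fun _ : Fin (k + 1) => R)).symm.toModuleIso ≪≫
          (ModuleCat.biprodIsoProd (ModuleCat.of R R) (ModuleCat.of R (Fin k → R))).symm
      have hT := (Tq n R (-(e : ℤ))).map_distinguished _ ((DCoh.Lpull π).map_distinguished _
        ((T R).map_distinguished _ (binaryBiproductTriangle_distinguished
          ((Gen43.Ring.sg b).obj (ModuleCat.of R R)) ((Gen43.Ring.sg b).obj (ModuleCat.of R (Fin k → R))))))
      exact (GoodP.ext hT h1 ih).of_iso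
        (G.mapIso ((Gen43.Ring.sg b).mapIso ei ≪≫ (Gen43.Ring.sg b).mapBiprod _ _).symm)
  haveI : Module.Finite R F := hF.1
  haveI : Module.Free R F := hF.2
  let k := Fintype.card (Module.Free.ChooseBasisIndex R F)
  let bF : F ≃ₗ[R] (Fin k → R) :=
    ((Module.Free.chooseBasis R F).reindex (Fintype.equivFin _)).equivFun
  exact (hfree k).of_iso (G.mapIso ((Gen43.Ring.sg b).mapIso bF.toModuleIso.symm))

end Free

variable (n R)

/-- Conditions for the descending induction. -/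
def Cond (b : ℤ) (K : DCoh.D (CohB1.ProjSpace n R)) : Prop :=
  DCoh.IsQCohD K ∧ (∀ d : ℕ, d ≤ n → ∀ m : ℤ, DCoh.IsPseudoCoherentD m (RT n R (d : ℤ) K)) ∧
    ∀ d : ℕ, d ≤ n → ∀ m, m < -b → Hd n R (d : ℤ) m K

variable {n R}

theorem pc_of_cond : ∀ (j : ℕ) (b : ℤ) (K : DCoh.D (CohB1.ProjSpace n R)), Cond n R b K →
    DCoh.IsPseudoCoherentD (b + 1 - j) K := by
  intro j
  induction j with
  | zero =>
    intro b K hK
    haveI := isLE_of_hd hK.1 b hK.2.2
    refine (Perfect.PseudoCoh.iff_forall _ _).2 fun x => Perfect.PseudoCoh.pcAt_of_vanish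
      (fun i hi => DerivedCategory.isZero_of_isLE K b i (by omega)) x
  | succ j ih =>
    intro b
    suffices hsuf : ∀ (k e : ℕ), e + k = n + 1 → ∀ K, Cond n R b K →
        (∀ d : ℕ, d < e → Hd n R (d : ℤ) (-b) K) → DCoh.IsPseudoCoherentD (b + 1 - (j + 1 : ℕ)) K from
      fun K hK => hsuf (n + 1) 0 (by omega) K hK fun d hd => absurd hd (Nat.not_lt_zero d)
    intro k
    induction k with
    | zero =>
      intro e he K hK hv
      have h := ih (b - 1) K ⟨hK.1, hK.2.1, fun d hd m hm => by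
        by_cases hm' : m = -b
        · subst hm'; exact hv d (by omega)
        · exact hK.2.2 d hd m (by omega)⟩
      rwa [show b + 1 - ((j + 1 : ℕ) : ℤ) = b - 1 + 1 - (j : ℤ) by omega]
    | succ k ihk =>
      intro e he K hK hv
      have hen : e ≤ n := by omega
      let π := CohB1.ProjSpace.toSpec n R
      haveI := LeftExists.hasLpull π
      let adj := PullPushAdj.derivedAdjunction π
      haveI : (RT n R (e : ℤ) K).IsLE b := (DerivedCategory.isLE_iff _ b).2 fun i hi =>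
        (hd_iff n R (e : ℤ) (-i) i (by omega) hK.1).1 (hK.2.2 e hen (-i) (by omega))
      obtain ⟨F, α, hF, hα⟩ := exists_free_cover (A := R) (E := RT n R (e : ℤ) K) (hK.2.1 e hen) b (-b)
        (by omega) (isQCohD_RT n R (e : ℤ) hK.1)
      let Q := (DCoh.Lpull π).obj ((Gen43.Affine.T R).obj ((Gen43.Ring.sg b).obj F))
      let P := (Tq n R (-(e : ℤ))).obj Q
      have hP : GoodP n R b P := goodP_free b e hen hF
      let α' : Q ⟶ (Tq n R (e : ℤ)).obj K := (adj.homEquiv _ _).symm α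
      obtain ⟨c⟩ := nonempty_Tq_cancel n R (-(e : ℤ)) (e : ℤ) (neg_add_cancel _) Q
      haveI := full_Tq n R (e : ℤ)
      let β : P ⟶ K := (Tq n R (e : ℤ)).preimage (c.hom ≫ α')
      have hβ : (Tq n R (e : ℤ)).map β = c.hom ≫ α' := (Tq n R (e : ℤ)).map_preimage _
      obtain ⟨K', g, δ, hT⟩ := distinguished_cocone_triangle β
      have hPq : DCoh.IsQCohD P := Perfect.QCohD.isQCohD_of_isPerfect hP.1
      have hpcP : ∀ (d : ℤ) (m : ℤ), DCoh.IsPseudoCoherentD m (RT n R d P) := fun d m =>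
        SchColim29.RpushPC.isPC_Rpush π (fun m' => (Perfect.PseudoCoh.iff_forall _ _).2 fun x =>
          Gen43.Approx.pcAt_perfect (isPerfect_tw _ (ProjCoh.Coherent.isInvertible_tw d) hP.1) m' x) m
      have hkey : ∀ d : ℕ, d ≤ n → ∀ m, m ≤ -b →
          (∀ φ : (CompactUnit.oneD (CohB1.ProjSpace n R))⟦m⟧ ⟶ (Tq n R (d : ℤ)).obj K,
            φ ≫ (Tq n R (d : ℤ)).map g = 0) → Hd n R (d : ℤ) m K' := by
        intro d hd m hm hφ χ
        have hT' := (Tq n R (d : ℤ)).map_distinguished _ (rot_of_distTriang _ hT)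
        obtain ⟨φ, rfl⟩ := Triangle.coyoneda_exact₂ _ hT' χ (hP.2 d hd m hm _)
        exact hφ φ
      have hvan : ∀ d : ℕ, d ≤ n → ∀ m, m ≤ -b → Hd n R (d : ℤ) m K → Hd n R (d : ℤ) m K' :=
        fun d hd m hm h => hkey d hd m hm fun φ => (congrArg (· ≫ _) (h φ)).trans zero_comp
      have hnew : Hd n R (e : ℤ) (-b) K' := by
        refine hkey e hen (-b) le_rfl fun φ => ?_
        obtain ⟨e₁⟩ := exists_adj n R (-b)
        obtain ⟨ψ, hψ⟩ := hα (adj.homEquiv _ _ (e₁.hom ≫ φ))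
        have h1 : e₁.hom ≫ φ = (DCoh.Lpull π).map ψ ≫ α' := by
          have := congrArg (adj.homEquiv _ _).symm hψ
          rw [Equiv.symm_apply_apply, Adjunction.homEquiv_naturality_left_symm] at this
          exact this.symm
        have h0 : (Tq n R (e : ℤ)).map β ≫ (Tq n R (e : ℤ)).map g = 0 := by
          rw [← Functor.map_comp]
          exact (congrArg (Tq n R (e : ℤ)).map (comp_distTriang_mor_zero₁₂ _ hT)).trans (Functor.map_zero _ _ _)
        have h2 : φ = (e₁.inv ≫ (DCoh.Lpull π).map ψ ≫ c.inv) ≫ (Tq n R (e : ℤ)).map β := by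
          rw [hβ, Category.assoc, Category.assoc, Iso.inv_hom_id_assoc, ← h1, Iso.inv_hom_id_assoc]
        rw [h2, Category.assoc, h0, comp_zero]
      have hK' : Cond n R b K' := ⟨TildeEquiv.isQCohD_mor₃ _ hT hPq hK.1, fun d hd m =>
        (Perfect.PseudoCoh.iff_forall _ _).2 fun x => Perfect.PseudoCoh.pcAt₃
          ((DCoh.Rpush π).map_distinguished _ ((Tq n R (d : ℤ)).map_distinguished _ hT))
          ((Perfect.PseudoCoh.iff_forall _ _).1 (hpcP d _) x)
          ((Perfect.PseudoCoh.iff_forall _ _).1 (hK.2.1 d hd _) x),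
        fun d hd m hm => hvan d hd m hm.le (hK.2.2 d hd m hm)⟩
      have h := ihk (e + 1) (by omega) K' hK' fun d hd => by
        by_cases hde : d = e
        · subst hde; exact hnew
        · exact hvan d (by omega) (-b) le_rfl (hv d (by omega))
      exact (Perfect.PseudoCoh.iff_forall _ _).2 fun x => Perfect.PseudoCoh.pcAt₂ hT
        (Gen43.Approx.pcAt_perfect hP.1 _ x) ((Perfect.PseudoCoh.iff_forall _ _).1 h x)

theorem exists_bound {E : DCoh.D (Spec (CommRingCat.of R))} (hq : DCoh.IsQCohD E)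
    (h : ∀ m : ℤ, DCoh.IsPseudoCoherentD m E) : ∃ b : ℤ, E.IsLE b := by
  obtain ⟨C, ⟨e⟩⟩ := TildeEquiv.exists_preimage (CommRingCat.of R) E hq
  obtain ⟨b, hb⟩ := Perfect.TildeD.exists_isLE (R := CommRingCat.of R) (K := C) (m := 0) fun x =>
    ((Perfect.PseudoCoh.iff_forall _ _).1 (h 0) x).of_iso e.symm
  have hb' := KoszulOrth36.Sheaf.isLE_tildeD_aux (CommRingCat.of R) hb
  exact ⟨b, (DerivedCategory.isLE_iff _ b).2 fun i hi => (DerivedCategory.isZero_of_isLE _ b i hi).of_iso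
    ((DerivedCategory.homologyFunctor _ i).mapIso e.symm)⟩

theorem main [∀ d : ℤ, DCoh.HasLTensorMod (Twist.twistProjSpace n R d)]
    (K : DCoh.D (CohB1.ProjSpace n R)) (hK : DCoh.IsQCohD K) :
    (∀ m : ℤ, DCoh.IsPseudoCoherentD m K) ↔
      ∀ d : ℕ, d ≤ n → ∀ m : ℤ, DCoh.IsPseudoCoherentD m
        ((DCoh.Rpush (CohB1.ProjSpace.toSpec n R)).obj
          ((DCoh.LTensorMod (Twist.twistProjSpace n R (d : ℤ))).obj K)) := by
  have hiso : ∀ d : ℤ, Nonempty (RT n R d K ≅ (DCoh.Rpush (CohB1.ProjSpace.toSpec n R)).obj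
      ((DCoh.LTensorMod (Twist.twistProjSpace n R d)).obj K)) := fun d => by
    obtain ⟨e⟩ := exists_pw_iso_LTensorMod (PT n R d) K 1 (N := Twist.twistProjSpace n R d)
      (leftUnit (PT n R d))
    exact ⟨(DCoh.Rpush _).mapIso e⟩
  constructor
  · intro h d _ m
    obtain ⟨i⟩ := hiso (d : ℤ)
    exact (Perfect.PseudoCoh.iff_forall _ _).2 fun x => ((Perfect.PseudoCoh.iff_forall _ _).1
      (SchColim29.RpushPC.isPC_Rpush _ (fun m' => isPC_tw _ (ProjCoh.Coherent.isInvertible_tw _) (h m')) m) x).of_iso i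
  · intro h m
    have hpc : ∀ d : ℕ, d ≤ n → ∀ m : ℤ, DCoh.IsPseudoCoherentD m (RT n R (d : ℤ) K) := fun d hd m => by
      obtain ⟨i⟩ := hiso (d : ℤ)
      exact (Perfect.PseudoCoh.iff_forall _ _).2 fun x =>
        ((Perfect.PseudoCoh.iff_forall _ _).1 (h d hd m) x).of_iso i.symm
    choose! bd hbd using fun (d : ℕ) (hd : d ≤ n) => exists_bound (isQCohD_RT n R (d : ℤ) hK) (hpc d hd)
    obtain ⟨b, hb⟩ := ((Finset.range (n + 1)).finite_toSet.image bd).bddAbove
    have hc : Cond n R b K := ⟨hK, hpc, fun d hd m hm => by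
      haveI := hbd d hd
      exact (hd_iff n R (d : ℤ) m (-m) (by omega) hK).2 (DerivedCategory.isZero_of_isLE _ (bd d) _
        (by have := hb ⟨d, Finset.mem_coe.2 (Finset.mem_range.2 (by omega)), rfl⟩; omega))⟩
    have h' := pc_of_cond (b + 1 - m).toNat b K hc
    exact (Perfect.PseudoCoh.iff_forall _ _).2 fun x =>
      ((Perfect.PseudoCoh.iff_forall _ _).1 h' x).mono' (by omega)

end Groth.Agent.H83.ProjPCCrit
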