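import Groth.Agent.H83.AmpleGen.Twist
import Groth.Agent.Lib.Perfect.Pullback
import Groth.Agent.Lib.Perfect.PseudoCoh

/-!
# Derived twists by invertible modules are locally trivial
-/

set_option autoImplicit false
set_option linter.style.haveILetI false
set_option linter.unusedSectionVars false

universe u

open CategoryTheory CategoryTheory.Limits AlgebraicGeometry

attribute [local instance] HasDerivedCategory.standard

namespace Groth.Agent.H83.ProjPCCrit

open Groth.Agent.Lib Groth.Agent.Lib.Perfect Groth.Agent.Lib.Perfect.Basic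
open Groth.Agent.Lib.TensorMod.Basic

variable {X : Scheme.{u}} (L : X.Modules)

/-- Restriction kills a twist on a trivialising open. -/
noncomputable def twRestrictIso (U : X.Opens) (e : L.restrict U.ι ≅ Coh.structureModule (U : Scheme.{u})) :
    AmpleGen.tw L ⋙ Scheme.Modules.pullback U.ι ≅ Scheme.Modules.pullback U.ι :=
  NatIso.ofComponents
    (fun G => TensorMod.Pullback.pullbackTensorIso U.ι G L ≪≫
      tensorIso (Iso.refl _) (((Scheme.Modules.restrictFunctorIsoPullback U.ι).app L).symm ≪≫ e) ≪≫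
      rightUnit _)
    fun {G G'} g => by
      let ψ := (((Scheme.Modules.restrictFunctorIsoPullback U.ι).app L).symm ≪≫ e).hom
      change (Scheme.Modules.pullback U.ι).map (tmap g (𝟙 L)) ≫ TensorMod.Pullback.delta U.ι G' L ≫
          tmap (𝟙 _) ψ ≫ (rightUnit _).hom =
        (TensorMod.Pullback.delta U.ι G L ≫ tmap (𝟙 _) ψ ≫ (rightUnit _).hom) ≫
          (Scheme.Modules.pullback U.ι).map g
      rw [← Category.assoc, TensorMod.Pullback.delta_natural]
      simp only [Category.assoc]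
      congr 1
      rw [← rightUnit_natural, ← tmap_comp_assoc, ← tmap_comp_assoc, Category.id_comp, Category.comp_id,
        Category.comp_id]
      congr 2
      exact (congrArg (· ≫ ψ) ((Scheme.Modules.pullback U.ι).map_id L)).trans (Category.id_comp ψ)

variable [(AmpleGen.tw L).IsEquivalence] (hL : PicF.IsInvertible L)

include hL in
theorem exists_restrict_tw_iso (Z : DCoh.D X) (x : X) :
    ∃ U : X.Opens, x ∈ U ∧
      Nonempty ((RD U.ι).obj ((AmpleGen.tw L).mapDerivedCategory.obj Z) ≅ (RD U.ι).obj Z) := by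
  obtain ⟨U, hx, ⟨e⟩⟩ := hL x
  let E := DerivedCategory.Q.objPreimage Z
  let eE := DerivedCategory.Q.objObjPreimageIso Z
  let c : (Perfect.Pullback.pC U.ι).obj (((AmpleGen.tw L).mapHomologicalComplex (ComplexShape.up ℤ)).obj E) ≅
      (Perfect.Pullback.pC U.ι).obj E :=
    HomologicalComplex.Hom.isoOfComponents (fun i => (twRestrictIso L U e).app (E.X i))
      fun i j _ => ((twRestrictIso L U e).hom.naturality (E.d i j)).symm
  exact ⟨U, hx, ⟨(RD U.ι).mapIso ((AmpleGen.tw L).mapDerivedCategory.mapIso eE.symm ≪≫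
      (AmpleGen.tw L).mapDerivedCategoryFactors.app E) ≪≫ RDQ _ _ ≪≫
    DerivedCategory.Q.mapIso ((Perfect.Pullback.rCIso U.ι).app _ ≪≫ c ≪≫
      ((Perfect.Pullback.rCIso U.ι).app _).symm) ≪≫ (RDQ _ _).symm ≪≫ (RD U.ι).mapIso eE⟩⟩

include hL in
/-- Twists of pseudo-coherent objects are pseudo-coherent. -/
theorem isPC_tw {m : ℤ} {Z : DCoh.D X} (h : DCoh.IsPseudoCoherentD m Z) :
    DCoh.IsPseudoCoherentD m ((AmpleGen.tw L).mapDerivedCategory.obj Z) := by
  refine (PseudoCoh.iff_forall _ _).2 fun x => ?_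
  obtain ⟨U, hx, ⟨e⟩⟩ := exists_restrict_tw_iso L hL Z x
  exact PseudoCoh.PCAt.of_restrict (j := U.ι) (y := ⟨x, hx⟩) rfl
    ((PseudoCoh.PCAt.restrict U.ι ⟨x, hx⟩ ((PseudoCoh.iff_forall _ _).1 h _)).of_iso e.symm)

include hL in
/-- Twists of perfect objects are perfect. -/
theorem isPerfect_tw {Z : DCoh.D X} (h : DCoh.IsPerfect Z) :
    DCoh.IsPerfect ((AmpleGen.tw L).mapDerivedCategory.obj Z) := by
  refine (Triangle.isPerfect_iff _).2 fun x => ?_
  obtain ⟨U, hx, ⟨e⟩⟩ := exists_restrict_tw_iso L hL Z x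
  exact Triangle.PerfAt.of_restrict (j := U.ι) (y := ⟨x, hx⟩) rfl
    ((Triangle.PerfAt.restrict U.ι ⟨x, hx⟩ ((Triangle.isPerfect_iff _).1 h _)).of_iso e.symm)

end Groth.Agent.H83.ProjPCCrit
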