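import Groth.Agent.H83.AmpleGen.PnGen
import Groth.Agent.H83.ProjPCCrit.Local

/-!
# The derived twists on projective space
-/

set_option autoImplicit false
set_option linter.style.haveILetI false
set_option linter.unusedSectionVars false

universe u

open CategoryTheory CategoryTheory.Limits AlgebraicGeometry

attribute [local instance] HasDerivedCategory.standard

namespace Groth.Agent.H83.ProjPCCrit

open Groth.Agent.Lib Groth.Agent.Lib.TensorMod.Basic Groth.Agent.H83.AmpleGen

/-- Isomorphic modules have isomorphic twist functors. -/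
noncomputable def twCongr {X : Scheme.{u}} {A B : X.Modules} (e : A ≅ B) : AmpleGen.tw A ≅ AmpleGen.tw B :=
  NatIso.ofComponents (fun G => tensorIso (Iso.refl G) e) fun {G G'} g => by
    change tmap g (𝟙 A) ≫ tmap (𝟙 G') e.hom = tmap (𝟙 G) e.hom ≫ tmap g (𝟙 B)
    rw [← tmap_comp, ← tmap_comp, Category.comp_id, Category.id_comp, Category.id_comp, Category.comp_id]

variable (n : ℕ) (R : Type u) [CommRing R]

instance isEquivalence_PT (d : ℤ) : (AmpleGen.tw (PT n R d)).IsEquivalence :=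
  AmpleGen.isEquivalence_tw (ProjCoh.Coherent.isInvertible_tw d)

/-- Twist by `O(d)` on `D(O_X)`. -/
noncomputable abbrev Tq (d : ℤ) : DCoh.D (CohB1.ProjSpace n R) ⥤ DCoh.D (CohB1.ProjSpace n R) :=
  (AmpleGen.tw (PT n R d)).mapDerivedCategory

theorem nonempty_Tq_zero (K : DCoh.D (CohB1.ProjSpace n R)) : Nonempty ((Tq n R 0).obj K ≅ K) := by
  let E := DerivedCategory.Q.objPreimage K
  let eE := DerivedCategory.Q.objObjPreimageIso K
  let v : AmpleGen.tw (PT n R 0) ≅ 𝟭 _ := twCongr ProjCoh.Coherent.twZero ≪≫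
    NatIso.ofComponents (fun G => rightUnit G) fun g => rightUnit_natural g
  let c : ((AmpleGen.tw (PT n R 0)).mapHomologicalComplex (ComplexShape.up ℤ)).obj E ≅ E :=
    HomologicalComplex.Hom.isoOfComponents (fun i => v.app (E.X i))
      fun i j _ => (v.hom.naturality (E.d i j)).symm
  exact ⟨(Tq n R 0).mapIso eE.symm ≪≫ (AmpleGen.tw (PT n R 0)).mapDerivedCategoryFactors.app E ≪≫
    DerivedCategory.Q.mapIso c ≪≫ eE⟩

theorem nonempty_Tq_add (a b c : ℤ) (h : a + b = c) (K : DCoh.D (CohB1.ProjSpace n R)) :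
    Nonempty ((Tq n R b).obj ((Tq n R a).obj K) ≅ (Tq n R c).obj K) := by
  let E := DerivedCategory.Q.objPreimage K
  let eE := DerivedCategory.Q.objObjPreimageIso K
  let v := twCongr (ProjCoh.Coherent.twTensor (n := n) (R := R) a b ≪≫ eqToIso (by rw [h]) :
    CohB1.tensorMod (PT n R a) (PT n R b) ≅ PT n R c)
  let w := twCxIso (PT n R a) (PT n R b) E ≪≫
    HomologicalComplex.Hom.isoOfComponents
      (C₂ := ((AmpleGen.tw (PT n R c)).mapHomologicalComplex (ComplexShape.up ℤ)).obj E)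
      (fun i => v.app (E.X i)) fun i j _ => (v.hom.naturality (E.d i j)).symm
  exact ⟨(Tq n R b).mapIso ((Tq n R a).mapIso eE.symm ≪≫
      (AmpleGen.tw (PT n R a)).mapDerivedCategoryFactors.app E) ≪≫
    (AmpleGen.tw (PT n R b)).mapDerivedCategoryFactors.app _ ≪≫ DerivedCategory.Q.mapIso w ≪≫
    ((AmpleGen.tw (PT n R c)).mapDerivedCategoryFactors.app E).symm ≪≫ (Tq n R c).mapIso eE⟩

theorem nonempty_Tq_cancel (a b : ℤ) (h : a + b = 0) (K : DCoh.D (CohB1.ProjSpace n R)) :
    Nonempty ((Tq n R b).obj ((Tq n R a).obj K) ≅ K) := by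
  obtain ⟨e⟩ := nonempty_Tq_add n R a b 0 h K
  obtain ⟨e'⟩ := nonempty_Tq_zero n R K
  exact ⟨e ≪≫ e'⟩

theorem nonempty_Tq_one (d m : ℤ) :
    Nonempty ((Tq n R d).obj ((DerivedOX.CompactUnit.oneD (CohB1.ProjSpace n R))⟦m⟧) ≅
      (DCoh.inD (CohB1.ProjSpace n R) (PT n R d))⟦m⟧) := by
  let T := AmpleGen.tw (PT n R d)
  exact ⟨(T.mapDerivedCategory.commShiftIso m).app _ ≪≫
      (shiftFunctor _ m).mapIso (T.mapDerivedCategory.mapIso
        ((DerivedCategory.singleFunctorIsoCompQ _ 0).app (Coh.structureModule _)) ≪≫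
        T.mapDerivedCategoryFactors.app _ ≪≫
        DerivedCategory.Q.mapIso ((HomologicalComplex.singleMapHomologicalComplex T (ComplexShape.up ℤ) 0).app _ ≪≫
          (HomologicalComplex.single _ (ComplexShape.up ℤ) 0).mapIso (leftUnit (PT n R d))) ≪≫
        ((DerivedCategory.singleFunctorIsoCompQ _ 0).app (PT n R d)).symm)⟩

theorem faithful_Tq (d : ℤ) : (Tq n R d).Faithful := by
  let v : AmpleGen.tw (PT n R d) ⋙ AmpleGen.tw (PT n R (-d)) ≅ 𝟭 _ :=
    twAssoc (PT n R d) (PT n R (-d)) ≪≫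
      twCongr (ProjCoh.Coherent.twTensor (n := n) (R := R) d (-d) ≪≫
        eqToIso (by rw [add_neg_cancel]) ≪≫ ProjCoh.Coherent.twZero) ≪≫
      NatIso.ofComponents (fun G => rightUnit G) fun g => rightUnit_natural g
  exact faithful_mapDerivedCategory (AmpleGen.tw (PT n R d)) (AmpleGen.tw (PT n R (-d))) v

end Groth.Agent.H83.ProjPCCrit
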