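import Groth.Agent.Lib.Gen43.Affine
import Groth.Agent.Lib.GenBdd.Basic
import Groth.Agent.Lib.KoszulOrth36.Sheaf
import Groth.Agent.Lib.Perfect.TildeD

/-!
# Maps from translates of `𝒪` on an affine scheme
-/

set_option autoImplicit false
set_option linter.style.haveILetI false
set_option linter.unusedSectionVars false

universe u

open CategoryTheory CategoryTheory.Limits CategoryTheory.Pretriangulated AlgebraicGeometry

attribute [local instance] HasDerivedCategory.standard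

namespace Groth.Agent.H83.ProjPCCrit

open Groth.Agent.Lib Groth.Agent.Lib.DerivedOX Groth.Agent.Lib.Gen43.Affine
open Groth.Agent.Lib.Gen43.Ring (sg)
open Groth.Agent.Lib.DR.PseudoCoherent

variable {A : Type u} [CommRing A]

/-- `(A[-n])~ = 𝒪[-n]`. -/
noncomputable def oneShiftIso (n m : ℤ) (h : m + n = 0) :
    (T A).obj ((sg n).obj (ModuleCat.of A A)) ≅ (CompactUnit.oneD (S A))⟦m⟧ :=
  sgIso' (CommRingCat.of A) n ≪≫
    (((DerivedCategory.singleFunctors (S A).Modules).shiftIso m n 0 h).app _).symm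

/-- Maps out of `A[-n]`. -/
lemma subsingleton_sg_iff (C : Dual.D A) (n : ℤ) :
    Subsingleton ((sg n).obj (ModuleCat.of A A) ⟶ C) ↔ Subsingleton (Dual.HD A C n) := by
  let e : (KoszulOrth36.Algebra.X ([] : List A))⟦-n⟧ ≅ (sg n).obj (ModuleCat.of A A) :=
    (shiftFunctor _ (-n)).mapIso KoszulOrth36.Algebra.nilIso ≪≫
      ((DerivedCategory.singleFunctors _).shiftIso (-n) n 0 (by omega)).app _
  exact ((Iso.homCongr e.symm (Iso.refl C)).trans
    (KoszulOrth36.Algebra.homNilEquiv C n).toEquiv).subsingleton_congr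

lemma isZero_HD_T_iff (C : Dual.D A) (n : ℤ) :
    IsZero (DCoh.HD ((T A).obj C) n) ↔ Subsingleton (Dual.HD A C n) := by
  constructor
  · intro h
    have h1 := Perfect.TildeD.isZero_of_tilde (h.of_iso (KoszulOrth36.Sheaf.HI (CommRingCat.of A) C n).symm)
    exact ModuleCat.isZero_iff_subsingleton.1 h1
  · intro h
    exact IsZero.of_iso (Functor.map_isZero _ (ModuleCat.isZero_iff_subsingleton.2 h))
      (KoszulOrth36.Sheaf.HI (CommRingCat.of A) C n)

/-- `Hom(𝒪[-n], E) = 0` iff `H^n E = 0`. -/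
theorem forall_hom_eq_zero_iff {E : DCoh.D (S A)} (hE : DCoh.IsQCohD E) (n m : ℤ) (h : m + n = 0) :
    (∀ φ : (CompactUnit.oneD (S A))⟦m⟧ ⟶ E, φ = 0) ↔ IsZero (DCoh.HD E n) := by
  obtain ⟨C, ⟨e⟩⟩ := TildeEquiv.exists_preimage (CommRingCat.of A) E hE
  haveI := TildeEquiv.full (CommRingCat.of A)
  haveI := TildeEquiv.faithful (CommRingCat.of A)
  let he : IsZero (DCoh.HD ((T A).obj C) n) ↔ IsZero (DCoh.HD E n) :=
    Iso.isZero_iff ((DerivedCategory.homologyFunctor _ n).mapIso e)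
  let eq : ((sg n).obj (ModuleCat.of A A) ⟶ C) ≃ ((CompactUnit.oneD (S A))⟦m⟧ ⟶ E) :=
    ((Functor.FullyFaithful.ofFullyFaithful (T A)).homEquiv).trans
      (Iso.homCongr (oneShiftIso n m h) e)
  rw [← he, isZero_HD_T_iff, ← subsingleton_sg_iff, eq.subsingleton_congr]
  exact ⟨fun h' => subsingleton_of_forall_eq 0 h', fun h' φ => Subsingleton.elim _ _⟩

/-- On an affine scheme `Hom(𝒪[-n], E) = 0` kills `H^n E`. -/
theorem isZero_HD_of_hom {V : Scheme.{u}} [IsAffine V] {E : DCoh.D V} (hE : DCoh.IsQCohD E) (n m : ℤ)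
    (h : m + n = 0) (h0 : ∀ φ : (CompactUnit.oneD V)⟦m⟧ ⟶ E, φ = 0) : IsZero (DCoh.HD E n) := by
  have h1 := (forall_hom_eq_zero_iff (CompactUnit.isQCohD_restrictD (spec V) hE) n m h).1 fun φ => by
    let e : (Φ V).obj ((CompactUnit.oneD V)⟦m⟧) ≅ (CompactUnit.oneD (S Γ(V, ⊤)))⟦m⟧ :=
      ((Φ V).commShiftIso m).app _ ≪≫ (shiftFunctor _ m).mapIso (CompactUnit.restrictOneIso (spec V))
    obtain ⟨ψ, hψ⟩ := (Φ V).map_surjective (e.hom ≫ φ)
    rw [h0 ψ, Functor.map_zero] at hψ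
    exact (cancel_epi e.hom).1 (hψ.symm.trans comp_zero.symm)
  have hz := (GenBdd.isZero_restrict_iff (spec V) E n).1 h1
  refine Modules.Support.support_eq_empty_iff.1 (Set.eq_empty_of_forall_notMem fun x => hz x ?_)
  rw [Scheme.Hom.opensRange_of_isIso]; trivial

/-- A free cover of the top cohomology of a pseudo-coherent object. -/
theorem exists_free_cover {E : DCoh.D (S A)} (hE : ∀ m : ℤ, DCoh.IsPseudoCoherentD m E) (b m : ℤ)
    (hm : m + b = 0) [E.IsLE b] (hq : DCoh.IsQCohD E) :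
    ∃ (F : ModuleCat.{u} A) (α : (T A).obj ((sg b).obj F) ⟶ E), ff A F ∧
      ∀ φ : (CompactUnit.oneD (S A))⟦m⟧ ⟶ E, ∃ ψ, ψ ≫ α = φ := by
  obtain ⟨C, ⟨e⟩⟩ := TildeEquiv.exists_preimage (CommRingCat.of A) E hq
  haveI : ((T A).obj C).IsLE b := (DerivedCategory.isLE_iff _ _).2 fun i hi =>
    (DerivedCategory.isZero_of_isLE E b i hi).of_iso ((DerivedCategory.homologyFunctor _ i).mapIso e)
  have hC : C.IsLE b := (DerivedCategory.isLE_iff C b).2 fun i hi => Perfect.TildeD.isZero_of_tilde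
    ((DerivedCategory.isZero_of_isLE ((T A).obj C) b i hi).of_iso
      (KoszulOrth36.Sheaf.HI (CommRingCat.of A) C i).symm)
  haveI : Module.Finite A (Dual.HD A C b) := by
    haveI : SheafOfModules.IsFiniteType (R := (S A).ringCatSheaf) (DCoh.HD ((T A).obj C) b) :=
      Perfect.Top.isFT_top (fun x => ((Perfect.PseudoCoh.iff_forall _ _).1 (hE b) x).of_iso e.symm)
        fun i hi => DerivedCategory.isZero_of_isLE _ b i hi
    exact Perfect.TildeFT.finite_of_isFT (R := CommRingCat.of A) _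
      (Modules.SupportOps.isFT_of_iso (Perfect.TildeD.HIso C b))
  obtain ⟨F, f, hF, Z, q, r, hd, hZ⟩ := Perfect.TildeD.exists_cone_top (R := CommRingCat.of A) (X := C) b hC
  refine ⟨F, (T A).map f ≫ e.hom, hF, fun φ => ?_⟩
  have hTd := (T A).map_distinguished _ hd
  haveI : ((T A).obj Z).IsLE (b - 1) := KoszulOrth36.Sheaf.isLE_tildeD_aux (CommRingCat.of A) hZ
  have hz : (φ ≫ e.inv) ≫ (T A).map q = 0 :=
    (forall_hom_eq_zero_iff (TildeEquiv.isQCohD_obj _ Z) b m hm).2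
      (DerivedCategory.isZero_of_isLE _ (b - 1) b (by omega)) _
  obtain ⟨ψ, hψ⟩ := Triangle.coyoneda_exact₂ _ hTd (φ ≫ e.inv) hz
  refine ⟨ψ, ?_⟩
  change ψ ≫ (T A).map f ≫ e.hom = φ
  exact (Category.assoc _ _ _).symm.trans ((congrArg (· ≫ e.hom) hψ.symm).trans
    ((Category.assoc _ _ _).trans ((congrArg (φ ≫ ·) e.inv_hom_id).trans (Category.comp_id φ))))

end Groth.Agent.H83.ProjPCCrit
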