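import Groth.Agent.H83.ProjPCCrit.Orth
import Groth.Agent.H83.ProjPCCrit.Base

/-!
# Vanishing of twisted cohomology bounds the cohomology sheaves
-/

set_option autoImplicit false
set_option linter.style.haveILetI false
set_option linter.unusedSectionVars false

universe u

open CategoryTheory CategoryTheory.Limits CategoryTheory.Pretriangulated AlgebraicGeometry

attribute [local instance] HasDerivedCategory.standard

namespace Groth.Agent.H83.ProjPCCrit

open Groth.Agent.Lib Groth.Agent.Lib.DerivedOX Groth.Agent.Lib.Perfect Groth.Agent.H83.AmpleGen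

variable (n : ℕ) (R : Type u) [CommRing R]

/-- `H^{-m}(K(d)) = 0`, in terms of maps. -/
def Hd (d m : ℤ) (K : DCoh.D (CohB1.ProjSpace n R)) : Prop :=
  ∀ φ : (CompactUnit.oneD (CohB1.ProjSpace n R))⟦m⟧ ⟶ (Tq n R d).obj K, φ = 0

variable {n R}

lemma Hd.of_iso {d m : ℤ} {K L : DCoh.D (CohB1.ProjSpace n R)} (h : Hd n R d m K) (e : K ≅ L) :
    Hd n R d m L := fun φ =>
  (cancel_mono ((Tq n R d).map e.inv)).1 ((h _).trans zero_comp.symm)

theorem orthLT_iff (K : DCoh.D (CohB1.ProjSpace n R)) (c d : ℤ) :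
    OrthLT K c (DCoh.inD (CohB1.ProjSpace n R) (PT n R (-d))) ↔ ∀ m, m < c → Hd n R d m K := by
  constructor
  · intro h m hm φ
    haveI := faithful_Tq n R (-d)
    obtain ⟨e₁⟩ := nonempty_Tq_one n R (-d) m
    obtain ⟨e₂⟩ := nonempty_Tq_cancel n R d (-d) (add_neg_cancel d) K
    refine (Tq n R (-d)).map_injective ?_
    rw [Functor.map_zero]
    have h0 := h m hm (e₁.inv ≫ (Tq n R (-d)).map φ ≫ e₂.hom)
    have h2 := congrArg (fun z => e₁.hom ≫ z ≫ e₂.inv) h0
    simpa using h2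
  · intro h m hm ψ
    haveI := faithful_Tq n R d
    obtain ⟨e₁⟩ := nonempty_Tq_one n R (-d) m
    obtain ⟨e₂⟩ := nonempty_Tq_cancel n R (-d) d (neg_add_cancel d) ((CompactUnit.oneD (CohB1.ProjSpace n R))⟦m⟧)
    refine (Tq n R d).map_injective ?_
    rw [Functor.map_zero]
    exact (cancel_epi (e₂.inv ≫ (Tq n R d).map e₁.hom)).1 ((h m hm _).trans comp_zero.symm)

/-- The bound propagates to all nonnegative twists. -/
theorem hd_all (K : DCoh.D (CohB1.ProjSpace n R)) (c : ℤ)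
    (h : ∀ d : ℕ, d ≤ n → ∀ m, m < c → Hd n R (d : ℤ) m K) :
    ∀ d : ℕ, ∀ m, m < c → Hd n R (d : ℤ) m K := by
  suffices hall : ∀ d : ℕ, OrthLT K c (DCoh.inD (CohB1.ProjSpace n R) (PT n R (-(d : ℤ)))) from
    fun d => (orthLT_iff K c (d : ℤ)).1 (hall d)
  intro d
  induction d using Nat.strong_induction_on with
  | _ d ih =>
    by_cases hd : d ≤ n
    · exact (orthLT_iff K c (d : ℤ)).2 (h d hd)
    obtain ⟨C, hC, hX, hz⟩ := Groth.Agent.S1071.result n R (-(d : ℤ))
    have h0 : OrthLT K c (AmpleGen.sQ 0 (C.X 0)) := OrthLT.first_of_acyclic C hC (n + 1)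
      (fun i hi => hz i (by omega))
      fun i hi => by
        by_cases hi' : (n : ℤ) + 1 < i
        · exact OrthLT.of_isZero ((HomologicalComplex.single _ (ComplexShape.up ℤ) i ⋙
            DerivedCategory.Q).map_isZero (hz i (Or.inr hi')))
        obtain ⟨j, rfl⟩ := Int.eq_ofNat_of_zero_le (show 0 ≤ i by omega)
        obtain ⟨e⟩ := hX j (by omega)
        refine (OrthLT.sigma _ _ fun _ => OrthLT.single (c := c) _ _ ?_ _ (by omega)).of_iso
          ((HomologicalComplex.single _ (ComplexShape.up ℤ) _ ⋙ DerivedCategory.Q).mapIso e.symm)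
        have := ih (d - j) (by omega)
        rw [show (-((d - j : ℕ) : ℤ)) = -(d : ℤ) + j by omega] at this
        exact this
    obtain ⟨e⟩ := hX 0 (by omega)
    haveI : Unique (Fin ((n + 1).choose 0)) := by rw [Nat.choose_zero_right]; infer_instance
    let ι₀ : PT n R (-(d : ℤ)) ≅ C.X (0 : ℤ) :=
      eqToIso ((show PT n R (-(d : ℤ)) = Twist.twistProjSpace n R (-(d : ℤ)) from rfl).trans
        (congrArg (Twist.twistProjSpace n R) (by simp))) ≪≫
      (Limits.coproductUniqueIso (fun _ : Fin (Nat.choose (n + 1) 0) =>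
        Twist.twistProjSpace n R (-(d : ℤ) + ((0 : ℕ) : ℤ)))).symm ≪≫ e.symm
    exact h0.of_iso ((HomologicalComplex.single _ (ComplexShape.up ℤ) 0 ⋙ DerivedCategory.Q).mapIso ι₀.symm ≪≫
      ((DerivedCategory.singleFunctorIsoCompQ _ 0).app _).symm)

section Van

variable {X : Scheme.{u}} {M : X.Modules} [(AmpleGen.tw M).IsEquivalence] (s : Coh.structureModule X ⟶ M)
  (hM : PicF.IsInvertible M) [CompactSpace X] [QuasiSeparatedSpace X]

include hM in
/-- The vanishing for one degree. -/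
theorem isZero_HD_restrict_of_hom (hU : IsAffineOpen (CohB1.genLocus M s)) {K : DCoh.D X}
    (hK : DCoh.IsQCohD K) (i m : ℤ) (hi : m + i = 0)
    (h : ∀ (N : ℕ) (φ : (CompactUnit.oneD X)⟦m⟧ ⟶ (pw (AmpleGen.tw M) N).obj K), φ = 0) :
    IsZero (DCoh.HD ((DCoh.restrictD (CohB1.genLocus M s).ι).obj K) i) := by
  let U := CohB1.genLocus M s
  haveI : IsAffine (U : Scheme.{u}) := hU
  haveI := Gen43.Restrict.quasiCompact_ι (X := X) hU.isCompact
  haveI := Exists.hasRpush U.ι
  haveI := OpenImm.isIso_restrictPushAdj_counit U.ι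
  let adj := OpenImm.restrictPushAdj U.ι
  let KU := (DCoh.restrictD U.ι).obj K
  have hKU : DCoh.IsQCohD KU := CompactUnit.isQCohD_restrictD U.ι hK
  refine isZero_HD_of_hom hKU i m hi fun β => ?_
  let Z := (DCoh.Rpush U.ι).obj KU
  let η : K ⟶ Z := Gen43.Restrict.unit U.ι K
  obtain ⟨W, g, δ, hT⟩ := distinguished_cocone_triangle η
  have hZ : DCoh.IsQCohD Z := RpushQCoh.isQCohD_Rpush U.ι KU hKU
  have hW : DCoh.IsQCohD W := TildeEquiv.isQCohD_mor₃ _ hT hK hZ
  have hv : Gen43.Restrict.Van U W :=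
    (Gen43.Restrict.isIso_restrict_iff hT).1 (Gen43.Restrict.isIso_restrict_unit U.ι K)
  let e : (DCoh.restrictD U.ι).obj ((CompactUnit.oneD X)⟦m⟧) ≅ (CompactUnit.oneD (U : Scheme.{u}))⟦m⟧ :=
    ((DCoh.restrictD U.ι).commShiftIso m).app _ ≪≫
      (shiftFunctor _ m).mapIso (CompactUnit.restrictOneIso U.ι)
  let α : (CompactUnit.oneD X)⟦m⟧ ⟶ Z := adj.homEquiv _ _ (e.hom ≫ β)
  obtain ⟨N, hN⟩ := exists_comp_sh_eq_zero s hM
    (Perfect.Triangle.isPerfect_shift (Gen43.Affine.isPerfect_oneD' X) m) hW hv (α ≫ g)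
  obtain ⟨δ', hTN⟩ := pw_distinguished (AmpleGen.tw M) N _ hT
  have h2 : (α ≫ (sh (AmpleGen.tw M) (mulT s) N).app Z) ≫ (pw (AmpleGen.tw M) N).map g = 0 := by
    rw [Category.assoc, ← (sh (AmpleGen.tw M) (mulT s) N).naturality g, ← Category.assoc]
    exact hN
  obtain ⟨a, ha⟩ := Triangle.coyoneda_exact₂ _ hTN _ h2
  have hα : α ≫ (sh (AmpleGen.tw M) (mulT s) N).app Z = 0 :=
    ha.trans ((congrArg (· ≫ (pw (AmpleGen.tw M) N).map η) (h N a)).trans zero_comp)
  haveI := isIso_restrict_sh s hM N Z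
  have h3 : (DCoh.restrictD U.ι).map α = 0 := by
    have := congrArg (fun k => (DCoh.restrictD U.ι).map k) hα
    simp only [Functor.map_comp, Functor.map_zero] at this
    exact (cancel_mono ((DCoh.restrictD U.ι).map ((sh (AmpleGen.tw M) (mulT s) N).app Z))).1
      (this.trans zero_comp.symm)
  have h4 : e.hom ≫ β = 0 := by
    have := (adj.homEquiv ((CompactUnit.oneD X)⟦m⟧) KU).symm_apply_apply (e.hom ≫ β)
    rw [← this, Adjunction.homEquiv_counit]
    change (DCoh.restrictD U.ι).map α ≫ _ = 0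
    rw [h3, zero_comp]
  exact (cancel_epi e.hom).1 (h4.trans comp_zero.symm)

end Van

/-- The cohomology sheaves vanish above the bound. -/
theorem isLE_of_hd {K : DCoh.D (CohB1.ProjSpace n R)} (hK : DCoh.IsQCohD K) (b : ℤ)
    (h : ∀ d : ℕ, d ≤ n → ∀ m, m < -b → Hd n R (d : ℤ) m K) : K.IsLE b := by
  refine (DerivedCategory.isLE_iff K b).2 fun i hi => ?_
  have hall := hd_all K (-b) h
  have hamp : CohB1.IsAmple (PT n R 1) := HProj.QuasiProj.isAmple_twist_projSpace n R
  haveI := Ample.Pullback.quasiSeparatedSpace_of_isAmple hamp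
  obtain ⟨hinv, hc, hloc⟩ := hamp
  haveI := hc
  refine Modules.Support.support_eq_empty_iff.1 (Set.eq_empty_of_forall_notMem fun x => ?_)
  obtain ⟨j, s, hx, hs⟩ := hloc x
  have hM := TensorMod.Invertible.isInvertible_tensorPow hinv (j + 1)
  haveI := AmpleGen.isEquivalence_tw hM
  have h0 := isZero_HD_restrict_of_hom s hM hs hK i (-i) (by omega) fun k φ => by
    let q : ℕ := (j + 1) * k
    obtain ⟨t⟩ := ProjCoh.Coherent.nonempty_tensorPow_iso (n := n) (R := R) q
    let iN : CohB1.tensorPow (CohB1.tensorPow (PT n R 1) (j + 1)) k ≅ PT n R (q : ℤ) :=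
      Ample.Pow.powMul (PT n R 1) (j + 1) k ≪≫ t.symm
    let E := DerivedCategory.Q.objPreimage K
    let eE := DerivedCategory.Q.objObjPreimageIso K
    obtain ⟨a⟩ := exists_pw_iso (CohB1.tensorPow (PT n R 1) (j + 1)) E k
    let v := twCongr iN
    let w : (pw (AmpleGen.tw (CohB1.tensorPow (PT n R 1) (j + 1))) k).obj K ≅ (Tq n R (q : ℤ)).obj K :=
      (pw _ k).mapIso eE.symm ≪≫ a ≪≫ DerivedCategory.Q.mapIso (HomologicalComplex.Hom.isoOfComponents
        (C₂ := ((AmpleGen.tw (PT n R (q : ℤ))).mapHomologicalComplex (ComplexShape.up ℤ)).obj E)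
        (fun l => v.app (E.X l)) fun l l' _ => (v.hom.naturality (E.d l l')).symm) ≪≫
      ((AmpleGen.tw (PT n R (q : ℤ))).mapDerivedCategoryFactors.app E).symm ≪≫ (Tq n R (q : ℤ)).mapIso eE
    exact (cancel_mono w.hom).1 ((hall q (-i) (by omega) _).trans zero_comp.symm)
  exact (GenBdd.isZero_restrict_iff (CohB1.genLocus _ s).ι K i).1 h0 x
    ((CohB1.genLocus _ s).opensRange_ι.symm ▸ hx)

end Groth.Agent.H83.ProjPCCrit
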