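import Groth.Agent.H83.ProjPCCrit.Twist

/-!
# Vanishing of maps below a bound
-/

set_option autoImplicit false
set_option linter.style.haveILetI false
set_option linter.unusedSectionVars false
set_option linter.unusedVariables false

universe u

open CategoryTheory CategoryTheory.Limits CategoryTheory.Pretriangulated AlgebraicGeometry

attribute [local instance] HasDerivedCategory.standard

namespace Groth.Agent.H83.ProjPCCrit

section Orth

open Groth.Agent.Lib Groth.Agent.Lib.Perfect

variable {X : Scheme.{u}} (K : DCoh.D X)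

/-- Left orthogonal to the translates of `K` below the bound `c`. -/
def OrthLT (c : ℤ) (Q : DCoh.D X) : Prop := ∀ (m : ℤ), m < c → ∀ (φ : Q⟦m⟧ ⟶ K), φ = 0

variable {K} {c : ℤ}

lemma OrthLT.of_iso {Q Q' : DCoh.D X} (h : OrthLT K c Q) (e : Q ≅ Q') : OrthLT K c Q' := fun m hm φ =>
  (cancel_epi (e.hom⟦m⟧')).1 ((h m hm _).trans comp_zero.symm)

lemma OrthLT.shift {Q : DCoh.D X} (h : OrthLT K c Q) (k c' : ℤ) (hc : c' + k ≤ c) : OrthLT K c' (Q⟦k⟧) :=
  fun m hm φ => (cancel_epi ((shiftFunctorAdd' (DCoh.D X) k m (k + m) rfl).hom.app Q)).1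
    ((h (k + m) (by omega) _).trans comp_zero.symm)

lemma OrthLT.of_isZero {Q : DCoh.D X} (h : IsZero Q) : OrthLT K c Q := fun m hm φ =>
  (Functor.map_isZero _ h).eq_of_src _ _

lemma OrthLT.ext {T : Triangle (DCoh.D X)} (hT : T ∈ distTriang (DCoh.D X)) (h₁ : OrthLT K c T.obj₁)
    (h₃ : OrthLT K c T.obj₃) : OrthLT K c T.obj₂ := fun m hm φ => by
  obtain ⟨ψ, rfl⟩ := Triangle.yoneda_exact₂ _ (Triangle.shift_distinguished _ hT m) φ (h₁ m hm _)
  exact (congrArg (_ ≫ ·) (h₃ m hm ψ)).trans comp_zero

/-- A module placed in degree `i`. -/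
noncomputable abbrev AmpleGen.sQ (i : ℤ) (M : X.Modules) : DCoh.D X :=
  DerivedCategory.Q.obj ((HomologicalComplex.single X.Modules (ComplexShape.up ℤ) i).obj M)

lemma OrthLT.single (M : X.Modules) (c' : ℤ) (h : OrthLT K c (DCoh.inD X M)) (i : ℤ) (hc : c' ≤ c + i) :
    OrthLT K c' (AmpleGen.sQ i M) :=
  (h.shift (-i) c' (by omega)).of_iso
    (((DerivedCategory.singleFunctors X.Modules).shiftIso (-i) i 0 (by omega)).app M ≪≫
      (DerivedCategory.singleFunctorIsoCompQ X.Modules i).app M)

lemma OrthLT.sigma {J : Type} [Finite J] (f : J → X.Modules) [HasCoproduct f] (i : ℤ)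
    (h : ∀ j, OrthLT K c (AmpleGen.sQ i (f j))) : OrthLT K c (AmpleGen.sQ i (∐ f)) := fun m hm φ => by
  classical
  haveI := Fintype.ofFinite J
  let G := HomologicalComplex.single X.Modules (ComplexShape.up ℤ) i ⋙ DerivedCategory.Q ⋙
    shiftFunctor (DCoh.D X) m
  have hid : 𝟙 (∐ f) = ∑ j, Sigma.desc (fun j' => if hj : j' = j then eqToHom (congrArg f hj) else 0) ≫
      Sigma.ι f j := Sigma.hom_ext _ _ fun j => by
    rw [Category.comp_id, Preadditive.comp_sum, Finset.sum_eq_single j]
    · simp
    · intro b _ hb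
      simp [Ne.symm hb]
    · simp
  have h1 : φ = G.map (𝟙 (∐ f)) ≫ φ := by rw [G.map_id]; exact (Category.id_comp φ).symm
  rw [h1, hid, Functor.map_sum, Preadditive.sum_comp]
  refine Finset.sum_eq_zero fun j _ => ?_
  rw [G.map_comp, Category.assoc, show G.map (Sigma.ι f j) ≫ φ = 0 from h j m hm _, comp_zero]

lemma OrthLT.of_terms (F : CochainComplex X.Modules ℤ) (hg : ∀ i, OrthLT K c (AmpleGen.sQ i (F.X i))) (b : ℤ) (m : ℕ)
    (hz : ∀ i, i < b - m ∨ b ≤ i → IsZero (F.X i)) : OrthLT K c (DerivedCategory.Q.obj F) := by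
  induction m generalizing F with
  | zero =>
    exact OrthLT.of_isZero (Functor.map_isZero _ ((IsZero.iff_id_eq_zero F).2
      (HomologicalComplex.hom_ext _ _ fun i => (hz i (by omega)).eq_of_src _ _)))
  | succ m ih =>
    let a := b - (m + 1 : ℕ)
    have hbelow : ∀ i, i < a → IsZero (F.X i) := fun i hi => hz i (Or.inl hi)
    let π : F ⟶ (HomologicalComplex.single X.Modules (ComplexShape.up ℤ) a).obj (F.X a) :=
      HomologicalComplex.mkHomToSingle (𝟙 _) (fun i (hi : i + 1 = a) =>
        (hbelow i (by omega)).eq_of_src _ _)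
    let S := ShortComplex.mk (Stupid.ι F (a + 1)) π (by
      apply HomologicalComplex.to_single_hom_ext
      exact (Stupid.isZero_trunc F (a + 1) a (by omega)).eq_of_src _ _)
    have σ : ∀ k, (S.map (HomologicalComplex.eval X.Modules (ComplexShape.up ℤ) k)).Splitting := fun k => by
      by_cases hk : a + 1 ≤ k
      · haveI : IsIso (S.map (HomologicalComplex.eval X.Modules (ComplexShape.up ℤ) k)).f :=
          Stupid.isIso_ι F (a + 1) k hk
        exact DerivedOX.DualFree.splitting₁ _
          (HomologicalComplex.isZero_single_obj_X (ComplexShape.up ℤ) a (F.X a) k (by omega))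
      · haveI : IsIso (S.map (HomologicalComplex.eval X.Modules (ComplexShape.up ℤ) k)).g := by
          change IsIso (π.f k)
          by_cases h₀ : k = a
          · subst h₀
            rw [show π.f a = 𝟙 _ ≫ (HomologicalComplex.singleObjXSelf (ComplexShape.up ℤ) a (F.X a)).inv from
              HomologicalComplex.mkHomToSingle_f _ _]
            infer_instance
          · exact DerivedOX.OpenSupport.isIso_of_zero _ (hbelow k (by omega))
              (HomologicalComplex.isZero_single_obj_X (ComplexShape.up ℤ) a (F.X a) k h₀)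
        exact DerivedOX.DualFree.splitting₃ _ (Stupid.isZero_trunc F (a + 1) k (by omega))
    have hS : S.ShortExact :=
      HomologicalComplex.shortExact_of_degreewise_shortExact S fun k => (σ k).shortExact
    refine OrthLT.ext (DerivedCategory.triangleOfSES_distinguished hS) (ih _ (fun i => ?_) fun i hi => ?_) (hg a)
    · by_cases hi : a + 1 ≤ i
      · haveI := Stupid.isIso_ι F (a + 1) i hi
        exact (hg i).of_iso ((HomologicalComplex.single X.Modules (ComplexShape.up ℤ) i ⋙
          DerivedCategory.Q).mapIso (asIso ((Stupid.ι F (a + 1)).f i)).symm)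
      · exact OrthLT.of_isZero ((HomologicalComplex.single X.Modules (ComplexShape.up ℤ) i ⋙
          DerivedCategory.Q).map_isZero (Stupid.isZero_trunc F (a + 1) i (by omega)))
    · by_cases hi' : a + 1 ≤ i
      · haveI := Stupid.isIso_ι F (a + 1) i hi'
        exact (hz i (by omega)).of_iso (asIso ((Stupid.ι F (a + 1)).f i))
      · exact Stupid.isZero_trunc F (a + 1) i (by omega)

/-- The first term of a bounded acyclic complex lies in the class of the others. -/
lemma OrthLT.first_of_acyclic (C : CochainComplex X.Modules ℤ) (hC : ∀ i, C.ExactAt i) (N : ℕ)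
    (hz : ∀ i : ℤ, i < 0 ∨ (N : ℤ) < i → IsZero (C.X i))
    (h : ∀ i : ℤ, 1 ≤ i → OrthLT K (c + 1) (AmpleGen.sQ i (C.X i))) : OrthLT K c (AmpleGen.sQ 0 (C.X 0)) := by
  let π : C ⟶ (HomologicalComplex.single X.Modules (ComplexShape.up ℤ) 0).obj (C.X 0) :=
    HomologicalComplex.mkHomToSingle (𝟙 _) (fun i (hi : i + 1 = 0) =>
      (hz i (by omega)).eq_of_src _ _)
  let T := Stupid.trunc C 1
  let S := ShortComplex.mk (Stupid.ι C 1) π (by
    apply HomologicalComplex.to_single_hom_ext
    exact (Stupid.isZero_trunc C 1 0 (by omega)).eq_of_src _ _)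
  have σ : ∀ k, (S.map (HomologicalComplex.eval X.Modules (ComplexShape.up ℤ) k)).Splitting := fun k => by
    by_cases hk : 1 ≤ k
    · haveI : IsIso (S.map (HomologicalComplex.eval X.Modules (ComplexShape.up ℤ) k)).f :=
        Stupid.isIso_ι C 1 k hk
      exact DerivedOX.DualFree.splitting₁ _
        (HomologicalComplex.isZero_single_obj_X (ComplexShape.up ℤ) 0 (C.X 0) k (by omega))
    · haveI : IsIso (S.map (HomologicalComplex.eval X.Modules (ComplexShape.up ℤ) k)).g := by
        change IsIso (π.f k)
        by_cases h₀ : k = 0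
        · subst h₀
          rw [show π.f 0 = 𝟙 _ ≫ (HomologicalComplex.singleObjXSelf (ComplexShape.up ℤ) 0 (C.X 0)).inv from
            HomologicalComplex.mkHomToSingle_f _ _]
          infer_instance
        · exact DerivedOX.OpenSupport.isIso_of_zero _ (hz k (by omega))
            (HomologicalComplex.isZero_single_obj_X (ComplexShape.up ℤ) 0 (C.X 0) k h₀)
      exact DerivedOX.DualFree.splitting₃ _ (Stupid.isZero_trunc C 1 k (by omega))
  have hS : S.ShortExact :=
    HomologicalComplex.shortExact_of_degreewise_shortExact S fun k => (σ k).shortExact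
  have hT : OrthLT K (c + 1) (DerivedCategory.Q.obj T) := by
    refine OrthLT.of_terms T (fun i => ?_) ((N : ℤ) + 1) N fun i hi => ?_
    · by_cases hi : 1 ≤ i
      · haveI := Stupid.isIso_ι C 1 i hi
        exact (h i hi).of_iso ((HomologicalComplex.single X.Modules (ComplexShape.up ℤ) i ⋙
          DerivedCategory.Q).mapIso (asIso ((Stupid.ι C 1).f i)).symm)
      · exact OrthLT.of_isZero ((HomologicalComplex.single X.Modules (ComplexShape.up ℤ) i ⋙
          DerivedCategory.Q).map_isZero (Stupid.isZero_trunc C 1 i (by omega)))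
    · by_cases hi' : 1 ≤ i
      · haveI := Stupid.isIso_ι C 1 i hi'
        exact (hz i (by omega)).of_iso (asIso ((Stupid.ι C 1).f i))
      · exact Stupid.isZero_trunc C 1 i (by omega)
  have h0 : IsZero (DerivedCategory.Q.obj C) := DerivedOX.OpenSupport.isZero_of_homology _ fun i =>
    ((HomologicalComplex.exactAt_iff_isZero_homology _ _).1 (hC i)).of_iso
      ((DerivedCategory.homologyFunctorFactors X.Modules i).app C)
  have hTr := rot_of_distTriang _ (DerivedCategory.triangleOfSES_distinguished hS)
  exact OrthLT.ext hTr (OrthLT.of_isZero h0) (hT.shift 1 c le_rfl)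

end Orth

end Groth.Agent.H83.ProjPCCrit
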